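import Groth.Agent.H23.PicMul
import Groth.Agent.InvUfdLib.Trivial
import Groth.Agent.InvDescN.Main
import Groth.Agent.GrpSchLib.GeomIrr
import Groth.Agent.GeomField.Reduced
import Mathlib.AlgebraicGeometry.AffineSpace
import Mathlib.AlgebraicGeometry.Geometrically.Integral

/-!
# Classes of invertible modules on a product with a rational variety
-/

set_option autoImplicit false
set_option backward.isDefEq.respectTransparency false
set_option backward.isDefEq.respectTransparency.types false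

universe u

open CategoryTheory CategoryTheory.Limits AlgebraicGeometry TopologicalSpace

noncomputable section

namespace Groth.Agent.RatPicProd

open Groth.Agent H23.PicMul

theorem geometricallyIntegral_of_isAlgClosed {k : Type u} [Field k] [IsAlgClosed k] {X : Scheme.{u}}
    (f : X ⟶ Spec (CommRingCat.of k)) [IsIntegral X] [LocallyOfFiniteType f] : GeometricallyIntegral f := by
  haveI := GrpSchLib.geometricallyIrreducible_of_isAlgClosed f
  haveI : GeometricallyReduced f := by
    letI : X.Over (Spec (CommRingCat.of k)) := ⟨f⟩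
    exact (GeomField.geometricallyReduced_iff (k := k) (X := X)).2 fun x => GeomField.isGeomReducedAt_of_perfect x
  exact .of_geometricallyReduced_of_geometricallyIrreducible f

/-- Invertible classes on a scheme embedded as an open in the spectrum of a factorial ring are trivial. -/
theorem cl_trivial_of_openImmersion {Z : Scheme.{u}} {R : CommRingCat.{u}} [IsDomain R] [UniqueFactorizationMonoid R]
    (j : Z ⟶ Spec R) [IsOpenImmersion j] {c : PicF.Cl Z} (hc : PicF.IsInvertibleCl c) : c = 1 := by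
  let e := j.isoOpensRange
  have h1 : PicF.pullCl e.inv c = 1 := by
    obtain ⟨L, hL, hLi⟩ := PicLoc.isInvertibleCl_pullCl e.inv hc
    rw [← hL]
    exact cl_eq_iff.2 (InvUfdLib.nonempty_iso (U := j.opensRange) L hLi)
  calc c = PicF.pullCl (e.hom ≫ e.inv) c := by rw [e.hom_inv_id, PicLoc.pullCl_id]
    _ = PicF.pullCl e.hom 1 := by rw [PicLoc.pullCl_comp, h1]
    _ = 1 := pullCl_one _

/-- An invertible class on the spectrum of a field is trivial. -/
theorem cl_trivial_of_field {K : Type u} [Field K] {c : PicF.Cl (Spec (CommRingCat.of K))}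
    (hc : PicF.IsInvertibleCl c) : c = 1 :=
  cl_trivial_of_openImmersion (R := CommRingCat.of K) (𝟙 (Spec (CommRingCat.of K))) hc

/-- Descent of classes trivial on the generic fibre. -/
theorem exists_descent_cl {X Y : Scheme.{u}} [IsIntegral Y] [IsLocallyNoetherian X] [IsLocallyNoetherian Y]
    (f : X ⟶ Y) [Flat f] [QuasiCompact f] [GeometricallyIntegral f] (hY : Pi1.IsNormalScheme Y)
    {c : PicF.Cl X} (hc : PicF.IsInvertibleCl c)
    (hgen : PicF.pullCl (f.fiberι (genericPoint ↥Y)) c = 1) :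
    ∃ d : PicF.Cl Y, PicF.IsInvertibleCl d ∧ PicF.pullCl f d = c := by
  obtain ⟨L, rfl, hL⟩ := hc
  obtain ⟨M, hM, ⟨e⟩⟩ := InvDescN.exists_descent f hY
    (fun η hη => by
      obtain rfl : genericPoint ↥Y = η := hη _ (genericPoint_specializes η)
      exact (cl_eq_iff.1 hgen).some) hL (fun y _ => inferInstance) (Or.inl inferInstance)
  exact ⟨PicF.cl M, ⟨M, rfl, hM⟩, cl_eq_iff.2 ⟨e⟩⟩

variable {k : Type u} [Field k]

/-- The base change of an open of affine space to a field is open in the spectrum of a polynomial ring. -/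
theorem cl_trivial_baseChange {n : Type u} (V : (𝔸(n; Spec (CommRingCat.of k))).Opens) {K : Type u} [Field K]
    (g : Spec (CommRingCat.of K) ⟶ Spec (CommRingCat.of k)) {Z : Scheme.{u}} (a : Z ⟶ V.toScheme)
    (b : Z ⟶ Spec (CommRingCat.of K))
    (h : IsPullback a b (V.ι ≫ (𝔸(n; Spec (CommRingCat.of k)) ↘ Spec (CommRingCat.of k))) g)
    {c : PicF.Cl Z} (hc : PicF.IsInvertibleCl c) : c = 1 := by
  have hA := AffineSpace.isPullback_map (n := n) g
  have hw : (a ≫ V.ι) ≫ (𝔸(n; Spec (CommRingCat.of k)) ↘ Spec (CommRingCat.of k)) = b ≫ g := by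
    rw [Category.assoc]; exact h.w
  let j : Z ⟶ 𝔸(n; Spec (CommRingCat.of K)) := hA.lift (a ≫ V.ι) b hw
  have hj : IsPullback a j V.ι (AffineSpace.map n g) := by
    refine IsPullback.of_bot ?_ (hA.lift_fst _ _ _).symm hA
    rw [show j ≫ (𝔸(n; Spec (CommRingCat.of K)) ↘ Spec (CommRingCat.of K)) = b from hA.lift_snd _ _ _]
    exact h
  haveI : IsOpenImmersion j := MorphismProperty.of_isPullback (P := @IsOpenImmersion) hj inferInstance
  exact cl_trivial_of_openImmersion (R := CommRingCat.of (MvPolynomial n K))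
    (j ≫ (AffineSpace.SpecIso n (CommRingCat.of K)).hom) hc

section Product

variable [IsAlgClosed k] {X Y : Scheme.{u}} (pX : X ⟶ Spec (CommRingCat.of k)) (pY : Y ⟶ Spec (CommRingCat.of k))
  [IsIntegral X] [IsSeparated pX] [LocallyOfFiniteType pX] [QuasiCompact pX]
  [IsIntegral Y] [IsSeparated pY] [LocallyOfFiniteType pY] [QuasiCompact pY]

/-- Every class on the product is the product of classes pulled back from the factors. -/
theorem exists_eq_mul (hX : Pi1.IsNormalScheme X) (hY : Pi1.IsNormalScheme Y) (U : X.Opens)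
    (hU : (U : Set X).Nonempty) {n : Type u} (V : (𝔸(n; Spec (CommRingCat.of k))).Opens)
    (e : U.toScheme ≅ V.toScheme)
    (he : e.hom ≫ V.ι ≫ (𝔸(n; Spec (CommRingCat.of k)) ↘ Spec (CommRingCat.of k)) = U.ι ≫ pX)
    {c : PicF.Cl (pullback pX pY)} (hc : PicF.IsInvertibleCl c) :
    ∃ (d₁ : PicF.Cl X) (d₂ : PicF.Cl Y), PicF.IsInvertibleCl d₁ ∧ PicF.IsInvertibleCl d₂ ∧
      c = PicF.pullCl (pullback.fst pX pY) d₁ * PicF.pullCl (pullback.snd pX pY) d₂ := by
  haveI : IsLocallyNoetherian (Spec (CommRingCat.of k)) := inferInstance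
  haveI : IsLocallyNoetherian X := LocallyOfFiniteType.isLocallyNoetherian pX
  haveI : IsLocallyNoetherian Y := LocallyOfFiniteType.isLocallyNoetherian pY
  haveI : CompactSpace ↥X := QuasiCompact.compactSpace_of_compactSpace pX
  haveI : Nonempty ↥U.toScheme := ⟨⟨hU.some, hU.some_mem⟩⟩
  haveI : IsIntegral U.toScheme := isIntegral_of_isOpenImmersion U.ι
  haveI : AlgebraicGeometry.IsNoetherian X := {}
  haveI : NoetherianSpace ↥X := inferInstance
  haveI : QuasiCompact U.ι := inferInstance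
  haveI := geometricallyIntegral_of_isAlgClosed pX
  haveI := geometricallyIntegral_of_isAlgClosed pY
  haveI := geometricallyIntegral_of_isAlgClosed (U.ι ≫ pX)
  let PU := pullback (U.ι ≫ pX) pY
  let q : PU ⟶ pullback pX pY := pullback.map (U.ι ≫ pX) pY pX pY U.ι (𝟙 Y) (𝟙 _) (by simp) (by simp)
  have hq₁ : q ≫ pullback.fst pX pY = pullback.fst (U.ι ≫ pX) pY ≫ U.ι := pullback.lift_fst _ _ _
  have hq₂ : q ≫ pullback.snd pX pY = pullback.snd (U.ι ≫ pX) pY := by
    rw [show q ≫ pullback.snd pX pY = pullback.snd (U.ι ≫ pX) pY ≫ 𝟙 Y from pullback.lift_snd _ _ _, Category.comp_id]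
  have hsq : IsPullback (pullback.fst (U.ι ≫ pX) pY) q U.ι (pullback.fst pX pY) := by
    refine IsPullback.of_bot ?_ hq₁.symm (IsPullback.of_hasPullback pX pY)
    rw [hq₂]
    exact IsPullback.of_hasPullback (U.ι ≫ pX) pY
  haveI : IsOpenImmersion q := MorphismProperty.of_isPullback (P := @IsOpenImmersion) hsq inferInstance
  obtain ⟨d₂, hd₂, hd₂'⟩ := exists_descent_cl (pullback.snd (U.ι ≫ pX) pY) hY
    (PicLoc.isInvertibleCl_pullCl q hc) (by
      refine cl_trivial_baseChange V (Y.fromSpecResidueField (genericPoint ↥Y) ≫ pY)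
        ((pullback.snd (U.ι ≫ pX) pY).fiberι (genericPoint ↥Y) ≫ pullback.fst (U.ι ≫ pX) pY ≫ e.hom)
        ((pullback.snd (U.ι ≫ pX) pY).fiberToSpecResidueField (genericPoint ↥Y)) ?_
        (PicLoc.isInvertibleCl_pullCl _ (PicLoc.isInvertibleCl_pullCl q hc))
      have h0 : IsPullback ((pullback.snd (U.ι ≫ pX) pY).fiberι (genericPoint ↥Y) ≫ pullback.fst (U.ι ≫ pX) pY)
          ((pullback.snd (U.ι ≫ pX) pY).fiberToSpecResidueField (genericPoint ↥Y)) (U.ι ≫ pX)
          (Y.fromSpecResidueField (genericPoint ↥Y) ≫ pY) :=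
        (IsPullback.of_hasPullback (pullback.snd (U.ι ≫ pX) pY) (Y.fromSpecResidueField (genericPoint ↥Y))).flip
          |>.paste_vert (IsPullback.of_hasPullback (U.ι ≫ pX) pY).flip |>.flip
      refine h0.of_iso (Iso.refl _) e (Iso.refl _) (Iso.refl _) ?_ ?_ ?_ ?_
      · simp
      · simp
      · simp only [Iso.refl_hom, Category.comp_id]
        exact he.symm
      · simp)
  obtain ⟨d', hd'⟩ := (isUnit_of_isInvertibleCl hd₂).exists_left_inv
  obtain ⟨D, hD, hDinv⟩ : ∃ D : PicLoc.PicSet Y, D.1 = d' ∧ d₂ * D.1 = 1 := by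
    obtain ⟨D, hD⟩ := exists_inv ⟨d₂, hd₂⟩
    refine ⟨D, ?_, (mul_comm _ _).trans hD⟩
    calc D.1 = D.1 * d₂ * d' := by rw [mul_assoc, mul_comm d₂, hd', mul_one]
      _ = d' := by rw [show D.1 * d₂ = 1 from hD, one_mul]
  let c' := c * PicF.pullCl (pullback.snd pX pY) D.1
  have hqc' : PicF.pullCl q c' = 1 := by
    simp only [c']
    rw [pullCl_mul, ← PicLoc.pullCl_comp, hq₂, ← hd₂', ← pullCl_mul, hDinv, pullCl_one]
  obtain ⟨d₁, hd₁, hd₁'⟩ := exists_descent_cl (pullback.fst pX pY) hX (c := c')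
    (isInvertibleCl_mul hc (PicLoc.isInvertibleCl_pullCl _ D.2)) (by
      have hr : Set.range ((pullback.fst pX pY).fiberι (genericPoint ↥X)) ⊆ Set.range q := by
        rintro z ⟨w, rfl⟩
        have hw : pullback.fst pX pY ((pullback.fst pX pY).fiberι (genericPoint ↥X) w) ∈ U := by
          rw [FlatDvr.fiberι_apply_eq]
          exact (genericPoint_specializes hU.some).mem_open U.isOpen hU.some_mem
        obtain ⟨t, -, ht⟩ := Scheme.Pullback.exists_preimage_pullback (f := U.ι) (g := pullback.fst pX pY)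
          ⟨_, hw⟩ ((pullback.fst pX pY).fiberι (genericPoint ↥X) w) rfl
        obtain ⟨s, hs⟩ := (hsq.isoPullback.hom).surjective t
        have : q s = (pullback.fst pX pY).fiberι (genericPoint ↥X) w := by
          rw [← hsq.isoPullback_hom_snd, Scheme.Hom.comp_apply, hs]
          assumption
        exact ⟨s, this⟩
      rw [← IsOpenImmersion.lift_fac q _ hr, PicLoc.pullCl_comp, hqc', pullCl_one])
  refine ⟨d₁, d₂, hd₁, hd₂, ?_⟩
  rw [hd₁']
  simp only [c']
  rw [mul_assoc, ← pullCl_mul, mul_comm D.1, hDinv, pullCl_one, mul_one]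

/-- The classes pulled back from the factors are independent. -/
theorem eq_one_of_mul_eq_one {d₁ : PicF.Cl X} {d₂ : PicF.Cl Y} (hd₁ : PicF.IsInvertibleCl d₁)
    (hd₂ : PicF.IsInvertibleCl d₂)
    (x₀ : Spec (CommRingCat.of k) ⟶ X) (hx₀ : x₀ ≫ pX = 𝟙 _)
    (y₀ : Spec (CommRingCat.of k) ⟶ Y) (hy₀ : y₀ ≫ pY = 𝟙 _)
    (h : PicF.pullCl (pullback.fst pX pY) d₁ * PicF.pullCl (pullback.snd pX pY) d₂ = 1) : d₁ = 1 ∧ d₂ = 1 := by
  constructor
  · let s : X ⟶ pullback pX pY := pullback.lift (𝟙 X) (pX ≫ y₀) (by rw [Category.assoc, hy₀]; simp)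
    have h1 := congrArg (PicF.pullCl s) h
    rw [pullCl_mul, ← PicLoc.pullCl_comp, ← PicLoc.pullCl_comp, pullback.lift_fst, pullback.lift_snd,
      PicLoc.pullCl_id, PicLoc.pullCl_comp, cl_trivial_of_field (PicLoc.isInvertibleCl_pullCl y₀ hd₂),
      pullCl_one, mul_one, pullCl_one] at h1
    exact h1
  · let s : Y ⟶ pullback pX pY := pullback.lift (pY ≫ x₀) (𝟙 Y) (by rw [Category.assoc, hx₀]; simp)
    have h1 := congrArg (PicF.pullCl s) h
    rw [pullCl_mul, ← PicLoc.pullCl_comp, ← PicLoc.pullCl_comp, pullback.lift_fst, pullback.lift_snd,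
      PicLoc.pullCl_id, PicLoc.pullCl_comp, cl_trivial_of_field (PicLoc.isInvertibleCl_pullCl x₀ hd₁),
      pullCl_one, one_mul, pullCl_one] at h1
    exact h1

end Product

end Groth.Agent.RatPicProd
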