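import Groth.Agent.RatPicProd.Core

/-!
# Classes on an open of affine space over a normal base
-/

set_option autoImplicit false
set_option backward.isDefEq.respectTransparency false
set_option backward.isDefEq.respectTransparency.types false

universe u

open CategoryTheory CategoryTheory.Limits AlgebraicGeometry TopologicalSpace

noncomputable section

namespace Groth.Agent.RatPicProd

open Groth.Agent H23.PicMul

variable {S : Scheme.{u}} {n : Type u}

theorem flat_over (n : Type u) (S : Scheme.{u}) : Flat (𝔸(n; S) ↘ S) :=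
  MorphismProperty.pullback_fst _ _ <| by
    have := isIso_of_isTerminal specULiftZIsTerminal terminalIsTerminal (terminal.from _)
    rw [← terminal.comp_from (Spec.map (CommRingCat.ofHom MvPolynomial.C)),
      MorphismProperty.cancel_right_of_respectsIso (P := @Flat), HasRingHomProperty.Spec_iff (P := @Flat)]
    exact RingHom.flat_algebraMap_iff.2 (inferInstance : Module.Flat (ULift.{u} ℤ) (MvPolynomial n (ULift.{u} ℤ)))

/-- The map to affine space over a field induced by a square over an open of affine space. -/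
theorem exists_openImmersion (V : (𝔸(n; S)).Opens) {K : Type u} [Field K]
    (g : Spec (CommRingCat.of K) ⟶ S) {Z : Scheme.{u}} (a : Z ⟶ V.toScheme) (b : Z ⟶ Spec (CommRingCat.of K))
    (h : IsPullback a b (V.ι ≫ (𝔸(n; S) ↘ S)) g) :
    ∃ j : Z ⟶ 𝔸(n; Spec (CommRingCat.of K)), IsOpenImmersion j := by
  have hA := AffineSpace.isPullback_map (n := n) g
  have hw : (a ≫ V.ι) ≫ (𝔸(n; S) ↘ S) = b ≫ g := by
    rw [Category.assoc]; exact h.w
  let j : Z ⟶ 𝔸(n; Spec (CommRingCat.of K)) := hA.lift (a ≫ V.ι) b hw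
  have hj : IsPullback a j V.ι (AffineSpace.map n g) := by
    refine IsPullback.of_bot ?_ (hA.lift_fst _ _ _).symm hA
    rw [show j ≫ (𝔸(n; Spec (CommRingCat.of K)) ↘ Spec (CommRingCat.of K)) = b from hA.lift_snd _ _ _]
    exact h
  exact ⟨j, MorphismProperty.of_isPullback (P := @IsOpenImmersion) hj inferInstance⟩

/-- Pullback from a normal base to an open of affine space with a section is bijective on classes. -/
theorem existsUnique_descent [IsNoetherian S] [Finite n] (U : (𝔸(n; S)).Opens) (u : S ⟶ U.toScheme)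
    (hu : u ≫ U.ι ≫ (𝔸(n; S) ↘ S) = 𝟙 S) {Y : Scheme.{u}} (g : Y ⟶ S) [IsIntegral Y] [IsNoetherian Y]
    (hY : Pi1.IsNormalScheme Y) {c' : PicF.Cl (pullback g (U.ι ≫ (𝔸(n; S) ↘ S)))}
    (hc' : PicF.IsInvertibleCl c') :
    ∃! c : PicF.Cl Y, PicF.IsInvertibleCl c ∧ PicF.pullCl (pullback.fst g (U.ι ≫ (𝔸(n; S) ↘ S))) c = c' := by
  let π : U.toScheme ⟶ S := U.ι ≫ (𝔸(n; S) ↘ S)
  let p : pullback g π ⟶ Y := pullback.fst g π
  haveI : Flat (𝔸(n; S) ↘ S) := flat_over n S
  haveI : LocallyOfFiniteType π := inferInstanceAs (LocallyOfFiniteType (U.ι ≫ (𝔸(n; S) ↘ S)))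
  haveI : IsLocallyNoetherian 𝔸(n; S) := LocallyOfFiniteType.isLocallyNoetherian (𝔸(n; S) ↘ S)
  haveI : CompactSpace ↥(𝔸(n; S)) := QuasiCompact.compactSpace_of_compactSpace (𝔸(n; S) ↘ S)
  haveI : AlgebraicGeometry.IsNoetherian 𝔸(n; S) := {}
  haveI : NoetherianSpace ↥(𝔸(n; S)) := inferInstance
  haveI : QuasiCompact π := inferInstanceAs (QuasiCompact (U.ι ≫ (𝔸(n; S) ↘ S)))
  haveI : Flat π := inferInstanceAs (Flat (U.ι ≫ (𝔸(n; S) ↘ S)))
  haveI : Flat p := inferInstanceAs (Flat (pullback.fst g π))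
  haveI : QuasiCompact p := inferInstanceAs (QuasiCompact (pullback.fst g π))
  haveI : LocallyOfFiniteType p := inferInstanceAs (LocallyOfFiniteType (pullback.fst g π))
  haveI : IsLocallyNoetherian (pullback g π) := LocallyOfFiniteType.isLocallyNoetherian p
  let s : Y ⟶ pullback g π := pullback.lift (𝟙 Y) (g ≫ u) (by rw [Category.assoc, hu, Category.id_comp, Category.comp_id])
  have hs : s ≫ p = 𝟙 Y := pullback.lift_fst _ _ _
  haveI : Surjective p := ⟨fun y => ⟨s y, by rw [← Scheme.Hom.comp_apply, hs]; rfl⟩⟩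
  have hsq : ∀ y : Y, IsPullback (p.fiberι y ≫ pullback.snd g π) (p.fiberToSpecResidueField y) π
      (Y.fromSpecResidueField y ≫ g) := fun y =>
    (IsPullback.of_hasPullback p (Y.fromSpecResidueField y)).flip
      |>.paste_vert (IsPullback.of_hasPullback g π) |>.flip
  have hfib : ∀ y : Y, IsIntegral (p.fiber y) := fun y => by
    obtain ⟨j, hj⟩ := exists_openImmersion U (Y.fromSpecResidueField y ≫ g) _ _ (hsq y)
    haveI := hj
    haveI : Nonempty ↥(p.fiber y) := by
      obtain ⟨x, hx⟩ := p.surjective y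
      obtain ⟨w, -⟩ : x ∈ Set.range (p.fiberι y) := by rw [Scheme.Hom.range_fiberι]; exact hx
      exact ⟨w⟩
    haveI : IsIntegral 𝔸(n; Spec (CommRingCat.of (Y.residueField y))) :=
      isIntegral_of_isOpenImmersion (AffineSpace.SpecIso n (CommRingCat.of (Y.residueField y))).hom
    exact isIntegral_of_isOpenImmersion j
  obtain ⟨L, rfl, hL⟩ := hc'
  have hgen : PicF.pullCl (p.fiberι (genericPoint ↥Y)) (PicF.cl L) = 1 := by
    obtain ⟨j, hj⟩ := exists_openImmersion U (Y.fromSpecResidueField (genericPoint ↥Y) ≫ g) _ _ (hsq _)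
    haveI := hj
    exact cl_trivial_of_openImmersion (R := CommRingCat.of (MvPolynomial n (Y.residueField (genericPoint ↥Y))))
      (j ≫ (AffineSpace.SpecIso n (CommRingCat.of (Y.residueField (genericPoint ↥Y)))).hom)
      (PicLoc.isInvertibleCl_pullCl _ ⟨L, rfl, hL⟩)
  obtain ⟨M, hM, ⟨e⟩⟩ := InvDescN.exists_descent p hY
    (fun η hη => by
      obtain rfl : genericPoint ↥Y = η := hη _ (genericPoint_specializes η)
      exact (cl_eq_iff.1 hgen).some) hL (fun y _ => hfib y) (Or.inl inferInstance)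
  refine ⟨PicF.cl M, ⟨⟨M, rfl, hM⟩, cl_eq_iff.2 ⟨e⟩⟩, fun c hc => ?_⟩
  have h1 : PicF.pullCl s (PicF.pullCl (pullback.fst g π) c) = PicF.pullCl s (PicF.pullCl p (PicF.cl M)) :=
    congrArg (PicF.pullCl s) (hc.2.trans (cl_eq_iff.2 ⟨e⟩ : PicF.pullCl p (PicF.cl M) = PicF.cl L).symm)
  rw [← PicLoc.pullCl_comp, ← PicLoc.pullCl_comp, show s ≫ pullback.fst g π = 𝟙 Y from hs, PicLoc.pullCl_id,
    PicLoc.pullCl_id] at h1
  exact h1

end Groth.Agent.RatPicProd
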